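import Cfsg.Agent.Lib.CharP.LinkLie
import Cfsg.Agent.Lib.Chev.Twist.Fam.D4
import Cfsg.Agent.Lib.Chev.Twist.Fam.E6
import Cfsg.Agent.Lib.Chev.Twist.Fam.F4

/-!
The flip criterion for the exceptional Chevalley groups and the twisted groups.
-/

set_option autoImplicit false
set_option maxRecDepth 100000
set_option linter.style.haveILetI false

namespace CfsgLib.CharP

open Cfsg.Lie CfsgLib.Chev

variable {F : Type*} [Field F] [Fintype F] {p : ℕ} [Fact p.Prime] [CharP F p]

theorem flip_G2 : Flip p (chevG2.group F) := flip_chev stdG2 (by decide +kernel)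
theorem flip_F4 : Flip p (chevF4.group F) := flip_chev stdF4 (by decide +kernel)
theorem flip_E6 : Flip p (chevE6.group F) := flip_chev stdE6 (by decide +kernel)
theorem flip_E7 : Flip p (chevE7.group F) := flip_chev stdE7 (by decide +kernel)
theorem flip_E8 : Flip p (chevE8.group F) := flip_chev stdE8 (by decide +kernel)

theorem flip_twistedE6 {q : ℕ} (hq : IsPrimePow q) (hK : Fintype.card F = q ^ 2) :
    Flip p (twistedE6 F q) := by
  obtain ⟨σ, hσ⟩ := exists_powHom hq two_ne_zero hK
  rw [E62.twisted_eq_fix hσ hK]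
  exact flip_twist (E62.tw σ) (E62.split hσ hK) (by decide +kernel)

theorem flip_twistedD4 {q : ℕ} (hq : IsPrimePow q) (hK : Fintype.card F = q ^ 3) :
    Flip p (twistedD4 F q) := by
  obtain ⟨σ, hσ⟩ := exists_powHom hq three_ne_zero hK
  rw [D43.twisted_eq_fix hσ hK]
  exact flip_twist (D43.tw σ) (D43.split hσ hK) (by decide +kernel)

omit [CharP F p] in
theorem flip_twistedF4 {m : ℕ} (hK : Fintype.card F = 2 ^ (2 * m + 1)) :
    Flip 2 (twistedF4 F (2 ^ m)) := by
  haveI : Fact (Nat.Prime 2) := ⟨Nat.prime_two⟩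
  obtain ⟨hc, σ, hσ, hi⟩ := F42.exists_sigma hK
  rw [F42.twisted_eq_fix hσ hi]
  exact flip_twist (F42.tw σ) (F42.split hi) (by decide +kernel)

end CfsgLib.CharP
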