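import Cfsg.Agent.Lib.CharP.LinkClassical
import Cfsg.Agent.Lib.CharP.Orth
import Cfsg.Agent.Lib.Geometry.AutRootCalc

/-!
Connected generating sets of Siegel elements in the orthogonal groups.
-/

set_option autoImplicit false
set_option linter.unusedSectionVars false

namespace CfsgLib.CharP

open QuadraticMap CfsgLib.Geometry CfsgLib.Classical

variable {F : Type*} [Field F] [Finite F] {p : ℕ} [hp : Fact p.Prime] [CharP F p]
variable {ι : Type} [Fintype ι] [DecidableEq ι] {Q : QuadraticForm F (ι → F)}

theorem linked_pomega (hQ : (polarBilin Q).Nondegenerate) (h7 : 7 ≤ Fintype.card ι)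
    {Q' : (ι → F) → F} (eQ : ⇑Q = Q') : Linked p (Cfsg.POmega F Q') := by
  subst eQ
  have D : RootHyp Q p := ⟨hQ, h7, hp.out, inferInstance⟩
  let K : Set (Cfsg.Omega F ⇑Q) :=
    {x | x ≠ 1 ∧ ∃ e w, Q e = 0 ∧ polar Q e w = 0 ∧ x = rootEl Q e w}
  have hne : ∀ e w, e ≠ 0 → Q e = 0 → Q w = 0 → polar Q e w = 0 → (∀ c : F, w ≠ c • e) →
      rootEl Q e w ≠ 1 := by
    intro e w he0 he hw hew hind h1
    have hw0 : w ≠ 0 := fun e0 => hind 0 (by rw [e0, zero_smul])
    have hes : e ∉ Submodule.span F {w} := by
      intro h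
      obtain ⟨c, hc⟩ := Submodule.mem_span_singleton.1 h
      rcases eq_or_ne c 0 with rfl | hc0
      · rw [zero_smul] at hc
        exact he0 hc.symm
      · exact hind c⁻¹ (by rw [← hc, smul_smul, inv_mul_cancel₀ hc0, one_smul])
    obtain ⟨x, hx, hxe⟩ := exists_polar hQ (Submodule.span F {w}) hes 1
    have := congrArg (fun g => omAct Q g x) h1
    simp only [map_one, D.act_root he hew, siegel_apply, hxe, hx w (Submodule.mem_span_singleton_self w),
      hw, zero_mul, zero_smul, one_smul, sub_zero] at this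
    exact hw0 (add_eq_left.1 this)
  have hadd : ∀ e w w', Q e = 0 → polar Q e w = 0 → polar Q e w' = 0 →
      Commute (rootEl Q e w) (rootEl Q e w') := by
    intro e w w' he hw hw'
    show _ * _ = _ * _
    rw [D.root_add he hw hw', D.root_add he hw' hw, add_comm]
  have hswap : ∀ e e', Q e = 0 → Q e' = 0 → polar Q e e' = 0 →
      rootEl Q e e' = rootEl Q e' (-e) := by
    intro e e' he he' h
    refine omAct_injective ?_
    rw [D.act_root he h, D.act_root he' (by rw [polar_neg_right, polar_comm, h, neg_zero]),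
      siegel_swap (e := e') (w := e) he' he (by rw [polar_comm, h]) h
        (by rw [polar_neg_right, polar_comm, h, neg_zero])]
  let R := fun a b : Cfsg.Omega F ⇑Q => b ∈ K ∧ Commute a b
  -- elements at the same point
  have hsame : ∀ e w w', Q e = 0 → polar Q e w = 0 → polar Q e w' = 0 → rootEl Q e w' ≠ 1 →
      R (rootEl Q e w) (rootEl Q e w') := fun e w w' he hw hw' h1 =>
    ⟨⟨h1, e, w', he, hw', rfl⟩, hadd e w w' he hw hw'⟩
  -- orthogonal independent points
  have horth : ∀ e e' w w', e ≠ 0 → Q e = 0 → Q e' = 0 → polar Q e e' = 0 → (∀ c : F, e' ≠ c • e) →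
      polar Q e w = 0 → polar Q e' w' = 0 → rootEl Q e' w' ≠ 1 →
      Relation.ReflTransGen R (rootEl Q e w) (rootEl Q e' w') := by
    intro e e' w w' he0 he he' h hind hw hw' h1
    refine Relation.ReflTransGen.head (hsame e w e' he hw h (hne e e' he0 he he' h hind)) ?_
    rw [hswap e e' he he' h]
    exact Relation.ReflTransGen.single
      (hsame e' (-e) w' he' (by rw [polar_neg_right, polar_comm, h, neg_zero]) hw' h1)
  refine Linked.of_gen (QuotientGroup.mk' _) (QuotientGroup.mk'_surjective _) K ?_ ?_ ?_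
  · rintro _ ⟨h1, e, w, he, hw, rfl⟩
    refine ⟨⟨1, D.root_pow_p he hw⟩, fun hc => h1 ?_⟩
    rw [QuotientGroup.mk'_apply, QuotientGroup.eq_one_iff] at hc
    exact D.center_eq_one hc (D.root_pow_p he hw)
  · rw [eq_top_iff]
    intro g _
    have hmem : ∀ s ∈ siegelGroup Q, s ∈ (Subgroup.closure K).map (omAct Q) := by
      intro s hs
      refine (Subgroup.closure_le _).2 ?_ hs
      rintro _ ⟨e, w, he, hw, rfl⟩
      refine ⟨rootEl Q e w, ?_, D.act_root he hw⟩
      by_cases h1 : rootEl Q e w = 1
      · rw [h1]; exact one_mem _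
      · exact Subgroup.subset_closure ⟨h1, e, w, he, hw, rfl⟩
    obtain ⟨y, hy, hyg⟩ := hmem _ ((range_omAct hQ (by omega)).le ⟨g, rfl⟩)
    rwa [omAct_injective hyg] at hy
  · rintro _ ⟨h1, e, w, he, hw, rfl⟩ _ ⟨h1', e', w', he', hw', rfl⟩
    have he0 : e ≠ 0 := by
      rintro rfl
      refine h1 (omAct_injective (LinearEquiv.ext fun v => ?_))
      rw [D.act_root he hw, map_one, siegel_apply, polar_zero_right]
      simp
    by_cases hdep : ∃ c : F, e' = c • e
    · obtain ⟨c, rfl⟩ := hdep
      rcases eq_or_ne c 0 with rfl | hc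
      · refine absurd (omAct_injective (LinearEquiv.ext fun v => ?_)) h1'
        rw [D.act_root he' hw', map_one, siegel_apply, zero_smul, polar_zero_right]
        simp
      have hw'' : polar Q e (c • w') = 0 := by
        rw [polar_smul_right']
        rw [polar_smul_left'] at hw'
        exact hw'
      have e1 : rootEl Q (c • e) w' = rootEl Q e (c • w') :=
        omAct_injective (by
          rw [D.act_root he' hw', D.act_root he hw'', siegel_smul_left e w' c he he' hw' hw''])
      rw [e1] at h1' ⊢
      exact Relation.ReflTransGen.single (hsame e w _ he hw hw'' h1')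
    push Not at hdep
    by_cases hpol : polar Q e e' = 0
    · exact horth e e' w w' he0 he he' hpol hdep hw hw' h1'
    obtain ⟨g, hg, hg0, hgQ⟩ : ∃ g ∈ pairPerp Q e e', g ≠ 0 ∧ Q g = 0 := by
      set f := (polar Q e e')⁻¹ • e' with hf
      have hfQ : Q f = 0 := by rw [hf, map_smul', he', mul_zero]
      have hef : polar Q e f = 1 := by rw [hf, polar_smul_right', inv_mul_cancel₀ hpol]
      have h3 : 3 ≤ Module.finrank F (pairPerp Q e f) := by
        have := finrank_pairPerp (Q := Q) e f
        rw [Module.finrank_fintype_fun_eq_card] at this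
        omega
      obtain ⟨g, hg0, hg⟩ := CfsgLib.Geometry.exists_singular (nondeg_pairPerp hQ he hfQ hef) h3
      refine ⟨g, mem_pairPerp.2 ⟨(mem_pairPerp.1 g.2).1, ?_⟩, fun h => hg0 (Subtype.ext h), hg⟩
      have := (mem_pairPerp.1 g.2).2
      obtain ⟨g, hgm⟩ := g
      simp only [hf, polar_smul_left'] at this
      exact (mul_eq_zero.1 this).resolve_left (inv_ne_zero hpol)
    obtain ⟨hge, hge'⟩ := mem_pairPerp.1 hg
    have hind : ∀ c : F, g ≠ c • e := by
      intro c hc
      rw [hc, polar_smul_right', polar_comm Q e' e] at hge'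
      rcases mul_eq_zero.1 hge' with h | h
      · exact hg0 (by rw [hc, h, zero_smul])
      · exact hpol h
    have hind' : ∀ c : F, e' ≠ c • g := by
      intro c hc
      rw [hc, polar_smul_right', hge, mul_zero] at hpol
      exact hpol rfl
    exact (horth e g w e he0 he hgQ hge hind hw (by rw [polar_comm, hge]) (by
        refine hne g e hg0 hgQ he (by rw [polar_comm, hge]) fun c hc => ?_
        rw [hc, polar_smul_left', polar_comm Q g e', hge', mul_zero] at hpol
        exact hpol rfl)).trans
      (horth g e' e w' hg0 hgQ he' (by rw [polar_comm, hge']) hind' (by rw [polar_comm, hge]) hw' h1')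

end CfsgLib.CharP
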