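import Cfsg.Agent.Lib.CharP.Main
import Cfsg.Agent.Lib.CharP.LinkOrth
import Cfsg.Agent.Lib.CharP.LinkInst
import Cfsg.Agent.Lib.CharP.RankOne
import Cfsg.Agent.Lib.Geometry.POmegaStd

/-!
Automorphisms of order prime to `p` of a simple group of Lie type in characteristic `p` fixing a
Sylow `p`-subgroup elementwise are trivial.
-/

set_option autoImplicit false
set_option linter.style.haveILetI false

namespace CfsgLib.CharP

open Cfsg CfsgLib.Classical CfsgLib.Geometry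

theorem Few.of_mulEquiv {p : ℕ} {G H : Type*} [Group G] [Group H] (h : Few p G) (e : G ≃* H) :
    Few p H := by
  obtain ⟨R, hR, hR1, n, hn, hfew⟩ := h
  refine ⟨R.map e.toMonoidHom, hR.map _, fun h => hR1 ?_, n, by rwa [← Nat.card_congr e.toEquiv], ?_⟩
  · exact (Subgroup.map_eq_bot_iff_of_injective _ e.injective).1 h
  · rw [← Subgroup.map_equiv_normalizer_eq]
    exact le_of_eq_of_le (Subgroup.index_map_equiv _ e) hfew

theorem rigid_of_lieTypeChar {G : Type*} [Group G] [Finite G] [IsSimpleGroup G] {p : ℕ}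
    [Fact p.Prime] (hG : IsLieTypeChar p G) : SylowRigid p G := by
  classical
  have hc := cpt_of_lieTypeChar hG
  rcases hG with h | h | h | h | h | h | h | h | h | h | h
  · obtain ⟨F, _, _, _, n, hn, -, ⟨e⟩⟩ := h
    rcases eq_or_lt_of_le hn with rfl | hn3
    · exact Few.rigid hc (few_psl_two.of_mulEquiv e.symm)
    · exact rigid_of_linked hc ((linked_psl hn3).of_mulEquiv e.symm)
  · obtain ⟨F, _, _, _, m, hm, -, ⟨e⟩⟩ := h
    exact rigid_of_linked hc ((linked_psp hm).of_mulEquiv e.symm)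
  · obtain ⟨F, _, _, _, n, q, hq, hn, -, ⟨e⟩⟩ := h
    have hF : Nat.card F = q ^ 2 := by rw [Nat.card_eq_fintype_card, hq]
    rcases eq_or_lt_of_le hn with rfl | hn4
    · exact Few.rigid hc ((few_psu_three hF).of_mulEquiv e.symm)
    · exact rigid_of_linked hc ((linked_psu hF hn4).of_mulEquiv e.symm)
  · obtain ⟨F, _, _, _, m, hm, hodd, ⟨e⟩⟩ := h
    have h2 : (2 : F) ≠ 0 := by
      refine Ring.two_ne_zero fun h2 => ?_
      have := FiniteField.even_card_of_char_two (F := F) h2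
      rw [Nat.odd_iff] at hodd
      omega
    refine rigid_of_linked hc ((linked_pomega (Q := matQuad (oddMat m F))
      (nondegenerate_matQuad (by
        rw [det_odd_gram]; exact mul_ne_zero h2 (pow_ne_zero _ (by simp))))
      (by simp; omega) (coe_matQuad_odd m)).of_mulEquiv e.symm)
  · obtain ⟨F, _, _, _, m, hm, ⟨e⟩⟩ := h
    exact rigid_of_linked hc ((linked_pomega (Q := matQuad (plusMat m F))
      (nondegenerate_matQuad (by rw [det_plus_gram]; exact pow_ne_zero _ (by simp)))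
      (by simp; omega) (coe_matQuad_plus m)).of_mulEquiv e.symm)
  · obtain ⟨F, _, _, _, m, a, b, hm, hab, ⟨e⟩⟩ := h
    exact rigid_of_linked hc ((linked_pomega (Q := matQuad (minusMat (m - 1) F a b))
      (nondegenerate_matQuad (by
        rw [det_minus_gram]
        exact mul_ne_zero (pow_ne_zero _ (by simp)) (binAniso_discr hab).1))
      (by simp; omega) (coe_matQuad_minus (m - 1) a b)).of_mulEquiv e.symm)
  · obtain ⟨F, _, _, _, h⟩ := h
    rcases h with ⟨-, ⟨e⟩⟩ | ⟨⟨e⟩⟩ | ⟨⟨e⟩⟩ | ⟨⟨e⟩⟩ | ⟨⟨e⟩⟩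
    · exact (Flip.rigid (cpt_chev (by simp)) flip_G2).of_mulEquiv e.symm
    · exact (Flip.rigid (cpt_chev (by simp)) flip_F4).of_mulEquiv e.symm
    · exact (Flip.rigid (cpt_chev (by simp)) flip_E6).of_mulEquiv e.symm
    · exact (Flip.rigid (cpt_chev (by simp)) flip_E7).of_mulEquiv e.symm
    · exact (Flip.rigid (cpt_chev (by simp)) flip_E8).of_mulEquiv e.symm
  · obtain ⟨K, _, _, _, q, hq, h⟩ := h
    rcases h with ⟨hK, ⟨e⟩⟩ | ⟨hK, ⟨e⟩⟩
    · exact (Flip.rigid (cpt_twistedE6 hq hK) (flip_twistedE6 hq hK)).of_mulEquiv e.symm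
    · exact (Flip.rigid (cpt_twistedD4 hq hK) (flip_twistedD4 hq hK)).of_mulEquiv e.symm
  · obtain ⟨rfl, K, _, _, m, hm, hK, ⟨e⟩⟩ := h
    exact Few.rigid hc ((few_sz (by rw [Nat.card_eq_fintype_card, hK])).of_mulEquiv e.symm)
  · obtain ⟨rfl, K, _, _, m, hm, hK, ⟨e⟩⟩ := h
    haveI : CharP K 2 := charP_of_card_eq_prime_pow (f := 2 * m + 1) hK
    exact (Flip.rigid (cpt_twistedF4 hK) (flip_twistedF4 hK)).of_mulEquiv e.symm
  · obtain ⟨rfl, K, _, _, m, hm, hK, ⟨e⟩⟩ := h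
    obtain ⟨hcK, h4, σ, hσ, hi⟩ := CfsgLib.Chev.G22.exists_sigma hK
    have hf := few_ree_sys (CfsgLib.Chev.G22.reeSys hm hK hi h4)
    rw [← CfsgLib.Chev.G22.twisted_eq_fix hσ hi h4] at hf
    exact Few.rigid hc (hf.of_mulEquiv e.symm)

end CfsgLib.CharP
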